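import Groth.Agent.Lib.FibreVanish36.Main
import Groth.Agent.Lib.GrothVanSupport
import Groth.Agent.H78.Formal.Sections
import Groth.Agent.S4467
import Groth.Agent.S4691
import Groth.Agent.S3389
import Groth.Agent.S11319
import Mathlib.RingTheory.AdicCompletion.Noetherian
import Mathlib.RingTheory.KrullDimension.Field
import Mathlib.RingTheory.Ideal.KrullsHeightTheorem

/-!
# Vanishing above the fibre dimension for coherent modules over a Noetherian base
-/

set_option autoImplicit false
set_option backward.isDefEq.respectTransparency false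

universe u

open CategoryTheory CategoryTheory.Limits AlgebraicGeometry Opposite TopologicalSpace
open Groth.Agent.Lib

namespace Groth.Agent.Lib.FibreVanish36.Coherent

variable {A : Type u} [CommRing A] {X : Scheme.{u}} [X.Over (Spec (CommRingCat.of A))]

/-- The quotients `M / I^n M` live over the zero locus of `I`. -/
theorem isZero_stalk_modPow (I : Ideal A) (n : ℕ) (M : X.Modules) [M.IsQuasicoherent] (x : X)
    (hx : ¬ I ≤ ((X ↘ Spec (CommRingCat.of A)) x).asIdeal) :
    IsZero (TopCat.Presheaf.stalk (Coh.toAb (_root_.Formal.modPow I n M)).obj x) := by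
  let P := (X ↘ Spec (CommRingCat.of A)) x
  obtain ⟨a, ha, haP⟩ : ∃ a ∈ I ^ n, a ∉ P.asIdeal := by
    obtain ⟨b, hb, hbP⟩ := SetLike.not_le_iff_exists.1 hx
    exact ⟨b ^ n, Ideal.pow_mem_pow hb n, fun h => hbP (P.2.mem_of_pow_mem n h)⟩
  haveI : (_root_.Formal.modPow I n M).IsQuasicoherent := H78.Formal.Sections.isQCoh_modPow I n
  refine @AddCommGrpCat.isZero_of_subsingleton _ (subsingleton_of_forall_eq 0 fun t => ?_)
  obtain ⟨U, hU, s, rfl⟩ := TopCat.Presheaf.exists_germ_eq (Coh.toAb (_root_.Formal.modPow I n M)).obj t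
  let r : Γ(X, ⊤) := Coh.toGlobal (X ↘ Spec (CommRingCat.of A)) a
  have hxD : x ∈ X.basicOpen r := by
    have e : X.basicOpen r = (X ↘ Spec (CommRingCat.of A)) ⁻¹ᵁ
        (Spec (CommRingCat.of A)).basicOpen ((Scheme.ΓSpecIso (CommRingCat.of A)).inv a) := by
      rw [Scheme.preimage_basicOpen]; rfl
    rw [e]
    show P ∈ (Spec (CommRingCat.of A)).basicOpen _
    rw [basicOpen_eq_of_affine]
    exact haP
  let V := U ⊓ X.basicOpen r
  have hV : IsUnit (H78.Formal.Sections.sMap A V a) := by
    have h1 := X.toRingedSpace.isUnit_res_basicOpen r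
    have e : H78.Formal.Sections.sMap A V a =
        X.presheaf.map (homOfLE (inf_le_right : V ≤ X.basicOpen r)).op
          (X.presheaf.map (homOfLE (le_top : X.basicOpen r ≤ ⊤)).op r) :=
      (H78.Formal.Sections.res_sMap (inf_le_right : V ≤ X.basicOpen r) a).symm
    rw [e]
    exact h1.map _
  let s' : Γ(_root_.Formal.modPow I n M, V) :=
    (Coh.toAb (_root_.Formal.modPow I n M)).obj.map (homOfLE (inf_le_left : V ≤ U)).op s
  have hk : _root_.Formal.smulMod A (_root_.Formal.modPow I n M) a = 0 := by
    rw [← cancel_epi (_root_.Formal.modPowπ I n M), comp_zero, ← H78.Formal.Sections.smulMod_comp]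
    exact H78.Formal.Sections.smulMod_π (I ^ n) M ha
  have h0 : H78.Formal.Sections.sMap A V a • s' = 0 := by
    rw [← H78.Formal.Sections.smulMod_app, hk]; rfl
  have hs : s' = 0 := hV.smul_eq_zero.1 h0
  rw [← TopCat.Presheaf.germ_res_apply (Coh.toAb (_root_.Formal.modPow I n M)).obj
    (homOfLE (inf_le_left : V ≤ U)) x ⟨hU, hxD⟩ s]
  exact (congrArg _ hs).trans (map_zero _)

/-- A finite module over a Noetherian local ring with zero completion is zero. -/
theorem subsingleton_of_completion (R : Type u) [CommRing R] [IsNoetherianRing R] [IsLocalRing R]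
    (N : Type u) [AddCommGroup N] [Module R N] [Module.Finite R N]
    (h : Subsingleton (AdicCompletion (IsLocalRing.maximalIdeal R) N)) : Subsingleton N := by
  haveI : IsHausdorff (IsLocalRing.maximalIdeal R) N :=
    IsHausdorff.of_isLocalRing _ _ (IsLocalRing.maximalIdeal.isMaximal R).ne_top
  exact (AdicCompletion.of_injective (IsLocalRing.maximalIdeal R) N).subsingleton

/-- The Noetherian vanishing theorem. -/
theorem cohVanish : Affine.CohVanish.{u} := by
  intro X Y f _ _ y d hd M hM p hp
  haveI : HasInjectiveResolutions X.Modules :=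
    haveI := CohDelta.Sect.enoughInjectives (X := X)
    inferInstance
  let R := Y.presheaf.stalk y
  haveI : IsNoetherianRing R := inferInstance
  let X₁ := pullback f (Y.fromSpecStalk y)
  letI : X₁.Over (Spec (CommRingCat.of R)) := ⟨pullback.snd f (Y.fromSpecStalk y)⟩
  let g : X₁ ⟶ X := pullback.fst f (Y.fromSpecStalk y)
  let h : X₁ ⟶ Spec (CommRingCat.of R) := X₁ ↘ Spec (CommRingCat.of R)
  have hsq : IsPullback g h f (Y.fromSpecStalk y) := IsPullback.of_hasPullback _ _
  haveI : IsProper h := MorphismProperty.of_isPullback hsq ‹IsProper f›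
  haveI : IsLocallyNoetherian (Spec (CommRingCat.of R)) := inferInstance
  haveI : IsLocallyNoetherian X₁ := LocallyOfFiniteType.isLocallyNoetherian h
  haveI : CompactSpace X₁ := QuasiCompact.compactSpace_of_compactSpace h
  haveI : IsNoetherian X₁ := ⟨⟩
  obtain ⟨m, hm⟩ := Groth.Agent.S3389.result h
  obtain ⟨N, hN⟩ : ∃ N : ℕ, topologicalKrullDim X₁ ≤ N := by
    have h1 := Groth.Agent.S4691.result h m hm
    have h2 : topologicalKrullDim ↥(Spec (CommRingCat.of R)) = ringKrullDim R :=
      PrimeSpectrum.topologicalKrullDim_eq_ringKrullDim R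
    obtain ⟨D, hD⟩ : ∃ D : ℕ, ringKrullDim R ≤ D :=
      ⟨(IsLocalRing.maximalIdeal R).height.toNat, by
        rw [← IsLocalRing.maximalIdeal_height_eq_ringKrullDim,
          ← WithBot.coe_natCast, WithBot.coe_le_coe,
          ENat.coe_toNat (Ideal.height_lt_top (IsLocalRing.maximalIdeal.isMaximal R).ne_top).ne]⟩
    rw [h2] at h1
    refine ⟨D + m, h1.trans ?_⟩
    push_cast
    gcongr
  let Z : Set X₁ := h ⁻¹' {IsLocalRing.closedPoint R}
  have hZc : IsClosed Z := (IsLocalRing.isClosed_singleton_closedPoint R).preimage h.continuous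
  have hZd : topologicalKrullDim Z ≤ d := by
    refine le_trans ?_ hd
    rw [FibreDim.Basic.topologicalKrullDim_fiber]
    have hg : ∀ z : Z, g z.1 ∈ f.base ⁻¹' {y} := fun z => by
      show f (g z.1) = y
      rw [← Scheme.Hom.comp_apply, hsq.w, Scheme.Hom.comp_apply,
        show h z.1 = IsLocalRing.closedPoint R from z.2]
      exact Scheme.fromSpecStalk_closedPoint
    let q : Z → ↥(f.base ⁻¹' {y}) := fun z => ⟨g z.1, hg z⟩
    haveI : IsPreimmersion g := MorphismProperty.pullback_fst _ _ inferInstance
    have hq : Topology.IsInducing q :=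
      Topology.IsInducing.of_comp (g := Subtype.val)
        (continuous_induced_rng.mpr (g.continuous.comp continuous_subtype_val))
        continuous_subtype_val
        (g.isEmbedding.isInducing.comp Topology.IsInducing.subtypeVal)
    exact hq.topologicalKrullDim_le
  have hG : Coh.IsCoh ((Scheme.Modules.pullback g).obj M) := Lib.Cyc.FP.Stalk.isCoh_pullback g hM
  haveI := hG.1
  have hvan : ∀ n, Subsingleton (_root_.Formal.HHmodPow (IsLocalRing.maximalIdeal R)
      ((Scheme.Modules.pullback g).obj M) p n) := fun n =>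
    GrothVanSupport.H_subsingleton N hN hZc hZd _ (fun x hx =>
      isZero_stalk_modPow (IsLocalRing.maximalIdeal R) (n + 1) _ x fun hle => hx
        (PrimeSpectrum.ext ((IsLocalRing.maximalIdeal.isMaximal R).eq_of_le
          (h x).2.ne_top hle).symm)) p hp
  obtain ⟨hfin, ⟨e⟩⟩ := Groth.Agent.S4467.result f M hM y p X₁ g hsq
  haveI : Subsingleton (_root_.Formal.HHlim (IsLocalRing.maximalIdeal R)
      ((Scheme.Modules.pullback g).obj M) p) :=
    ⟨fun a b => Subtype.ext (funext fun n => (hvan n).elim _ _)⟩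
  haveI := hfin
  haveI : Subsingleton (((Coh.Rpush f p).obj M).presheaf.stalk y) :=
    subsingleton_of_completion R _ e.toEquiv.subsingleton
  obtain ⟨j⟩ := Groth.Agent.S11319.result f M p
  let Φ := (sheafToPresheaf (Opens.grothendieckTopology ↥Y) AddCommGrpCat.{u}) ⋙
    TopCat.Presheaf.stalkFunctor AddCommGrpCat.{u} y
  refine IsZero.of_iso ?_ (Φ.mapIso j).symm
  exact @AddCommGrpCat.isZero_of_subsingleton _ ‹Subsingleton (((Coh.Rpush f p).obj M).presheaf.stalk y)›

end Groth.Agent.Lib.FibreVanish36.Coherent
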