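import Groth.Agent.Lib.FibreVanish36.Affine
import Groth.Agent.Lib.CohDelta.AbR
import Groth.Agent.Lib.FibreDim.Global

/-!
# Vanishing of higher direct images above the fibre dimension
-/

set_option autoImplicit false
set_option backward.isDefEq.respectTransparency false

universe u

open CategoryTheory CategoryTheory.Limits AlgebraicGeometry Opposite TopologicalSpace
open Groth.Agent.Lib Groth.Agent.Lib.ZarCoh.Basic Groth.Agent.Lib.CohDelta

namespace Groth.Agent.Lib.FibreVanish36.Main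

variable {X Y : Scheme.{u}} (f : X ⟶ Y)

/-- Fibres of a restriction. -/
theorem dim_fiber_restrict (U : Y.Opens) (x : U) :
    topologicalKrullDim ↥((f ∣_ U).fiber x) ≤ topologicalKrullDim ↥(f.fiber x.1) := by
  rw [FibreDim.Basic.topologicalKrullDim_fiber, FibreDim.Basic.topologicalKrullDim_fiber]
  have hsub : ∀ z : ↥((f ∣_ U).base ⁻¹' {x}), (f ⁻¹ᵁ U).ι z.1 ∈ f.base ⁻¹' {x.1} := fun z => by
    have h1 : f ((f ⁻¹ᵁ U).ι z.1) = U.ι ((f ∣_ U) z.1) := by
      rw [← Scheme.Hom.comp_apply, ← morphismRestrict_ι, Scheme.Hom.comp_apply]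
    have h2 : (f ∣_ U) z.1 = x := z.2
    rw [Set.mem_preimage, Set.mem_singleton_iff, h1, h2]; rfl
  let m : ↥((f ∣_ U).base ⁻¹' {x}) → ↥(f.base ⁻¹' {x.1}) := fun z => ⟨(f ⁻¹ᵁ U).ι z.1, hsub z⟩
  have hm : Topology.IsInducing m :=
    Topology.IsInducing.of_comp (g := Subtype.val)
      (continuous_induced_rng.mpr ((f ⁻¹ᵁ U).ι.continuous.comp continuous_subtype_val))
      continuous_subtype_val
      ((f ⁻¹ᵁ U).ι.isOpenEmbedding.isInducing.comp Topology.IsInducing.subtypeVal)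
  exact hm.topologicalKrullDim_le

/-- Vanishing on preimages of affine opens where the fibres are small. -/
theorem subsingleton_HU (H : Affine.CohVanish.{u}) [IsProper f] (d : ℕ) {W : Y.Opens}
    (hW : IsAffineOpen W) (hd : ∀ y ∈ W, topologicalKrullDim ↥(f.fiber y) ≤ d) (M : X.Modules)
    [M.IsQuasicoherent] (p : ℕ) (hp : d ≤ p) :
    Subsingleton (CohTop.HU (Coh.toAb M) (p + 1) (f ⁻¹ᵁ W)) := by
  haveI : IsAffine (W : Scheme.{u}) := hW
  haveI : IsProper (f ∣_ W) := MorphismProperty.of_isPullback (isPullback_morphismRestrict f W).flip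
    inferInstance
  haveI : (M.restrict (f ⁻¹ᵁ W).ι).IsQuasicoherent := inferInstance
  haveI : Subsingleton (Coh.HHon X M (f ⁻¹ᵁ W) (p + 1)) :=
    Affine.subsingleton_HH H (f ∣_ W) d
      (fun x => (dim_fiber_restrict f W x).trans (hd x.1 x.2)) _ p hp
  exact (ZarCoh.Morph.nonempty_HHon_equiv M (f ⁻¹ᵁ W) (p + 1)).some.toEquiv.symm.subsingleton

/-- Small fibres on a neighbourhood. -/
theorem exists_nhd [IsProper f] (y : Y) (d : ℕ) (hd : topologicalKrullDim ↥(f.fiber y) ≤ d) :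
    ∃ V : Y.Opens, y ∈ V ∧ IsAffineOpen V ∧ ∀ z ∈ V, topologicalKrullDim ↥(f.fiber z) ≤ d := by
  have ho : IsOpen {s : Y | topologicalKrullDim ↥(f.fiber s) ≤ (d : WithBot ℕ∞)} :=
    FibreDim.Global.isOpen_setOf_fibre_dim_le f f.isClosedMap _
  obtain ⟨V, hV, hyV, hle⟩ := exists_isAffineOpen_mem_and_subset (X := Y) (U := ⟨_, ho⟩) (x := y) hd
  exact ⟨V, hyV, hV, fun z hz => hle hz⟩

/-- Stalks of higher direct images vanish if cohomology of small preimages does. -/
theorem isZero_stalk [QuasiCompact f] [QuasiSeparated f] (V₀ : Y.Opens) {y : Y} (hy : y ∈ V₀)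
    (M : X.Modules) [hM : M.IsQuasicoherent] (p : ℕ)
    (h : ∀ W : Y.Opens, IsAffineOpen W → W ≤ V₀ → ∀ N : X.Modules, N.IsQuasicoherent →
      Subsingleton (CohTop.HU (Coh.toAb N) (p + 1) (f ⁻¹ᵁ W))) :
    IsZero (TopCat.Presheaf.stalk ((Coh.RpushAb f (p + 1)).obj (Coh.toAb M)).obj y) := by
  haveI := Sect.enoughInjectives (X := X)
  let I := InjectiveResolution.of M
  haveI : (Syzygy.Z I 0).IsQuasicoherent :=
    ObjectProperty.prop_of_iso (SheafOfModules.isQuasicoherent (R := X.ringCatSheaf)) (Syzygy.augIso I) hM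
  have hz : ∀ W : Y.Opens, IsAffineOpen W → W ≤ V₀ → Subsingleton Γ(Syzygy.R I f p, W) := by
    intro W hW hWV
    haveI : Subsingleton (Abelian.Ext.{u} (Zs.obj (f ⁻¹ᵁ W)) (Coh.toAb (Syzygy.Z I 0)) (p + 1)) :=
      h W hW hWV _ inferInstance
    exact (QCohR.e_bijective f I p hW).2.subsingleton
  obtain ⟨i⟩ := AbR.nonempty_rpushAb_iso f I p
  let Φ := (sheafToPresheaf (Opens.grothendieckTopology ↥Y) AddCommGrpCat.{u}) ⋙
    TopCat.Presheaf.stalkFunctor AddCommGrpCat.{u} y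
  refine IsZero.of_iso ?_ (Φ.mapIso i)
  haveI : Subsingleton (Φ.obj (Coh.toAb (Syzygy.R I f p))) := by
    refine subsingleton_of_forall_eq 0 fun t => ?_
    obtain ⟨U, hU, s, rfl⟩ := TopCat.Presheaf.exists_germ_eq (Coh.toAb (Syzygy.R I f p)).obj t
    obtain ⟨W, hW, hyW, hWU⟩ := exists_isAffineOpen_mem_and_subset (U := U ⊓ V₀) (x := y) ⟨hU, hy⟩
    rw [← TopCat.Presheaf.germ_res_apply (Coh.toAb (Syzygy.R I f p)).obj
      (homOfLE (hWU.trans inf_le_left)) y hyW s]
    haveI := hz W hW (hWU.trans inf_le_right)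
    exact (congrArg _ (Subsingleton.elim (α := Γ(Syzygy.R I f p, W)) _ 0)).trans (map_zero _)
  exact AddCommGrpCat.isZero_of_subsingleton _

/-- The stalk form. -/
theorem stalk_vanish (H : Affine.CohVanish.{u}) [IsProper f] (y : Y) (d : ℕ)
    (hd : topologicalKrullDim ↥(f.fiber y) ≤ d) (M : X.Modules) [M.IsQuasicoherent] (i : ℕ)
    (hi : d < i) :
    IsZero (TopCat.Presheaf.stalk ((Coh.RpushAb f i).obj (Coh.toAb M)).obj y) := by
  obtain ⟨V, hyV, -, hV⟩ := exists_nhd f y d hd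
  obtain ⟨p, rfl⟩ := Nat.exists_eq_succ_of_ne_zero (show i ≠ 0 by omega)
  exact isZero_stalk f V hyV M p fun W hW hWV N hN =>
    haveI := hN
    subsingleton_HU f H d hW (fun z hz => hV z (hWV hz)) N p (by omega)

/-- The neighbourhood form. -/
theorem nhd_vanish (H : Affine.CohVanish.{u}) [IsProper f] (y : Y) (d : ℕ)
    (hd : topologicalKrullDim ↥(f.fiber y) ≤ d) :
    ∃ V : Y.Opens, y ∈ V ∧ IsAffineOpen V ∧
      ∀ (M : (↑(f ⁻¹ᵁ V) : Scheme.{u}).Modules) (i : ℕ), Coh.IsQCoh M → d < i →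
        IsZero ((Coh.RpushAb (f ∣_ V) i).obj (Coh.toAb M)) := by
  obtain ⟨V, hyV, hVa, hV⟩ := exists_nhd f y d hd
  haveI : IsProper (f ∣_ V) := MorphismProperty.of_isPullback (isPullback_morphismRestrict f V).flip
    inferInstance
  refine ⟨V, hyV, hVa, fun M i hM hi => Affine.isZero_of_stalk _ fun z => ?_⟩
  haveI : M.IsQuasicoherent := hM
  exact stalk_vanish (f ∣_ V) H z d ((dim_fiber_restrict f V z).trans (hV z.1 z.2)) M i hi

end Groth.Agent.Lib.FibreVanish36.Main
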