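import Groth.Agent.S9215
import Groth.Agent.Lib.Lim.Approx.Proper
import Groth.Agent.Lib.Lim.FPDescend
import Groth.Agent.Lib.Lim.Valuative
import Groth.Agent.H2.Rigid.SubDiagram

/-!
# A proper morphism with small fibres has an affine map to a Noetherian model with small fibres
-/

set_option autoImplicit false
set_option backward.isDefEq.respectTransparency false

universe u

open CategoryTheory CategoryTheory.Limits AlgebraicGeometry Opposite
open Groth.Agent.Lib.Lim Groth.Agent.Lib.Lim.Basic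
open Groth.Agent.H2.Rigid

namespace Groth.Agent.Lib.FibreVanish36.Model

/-- Some finitely presented stage of a proper morphism has small fibres. -/
theorem exists_fp {X S : Scheme.{u}} (f : X ⟶ S) [IsProper f] [CompactSpace S]
    [QuasiSeparatedSpace S] (d : ℕ) (hd : ∀ s : S, topologicalKrullDim ↥(f.fiber s) ≤ d) :
    ∃ (X₁ : Scheme.{u}) (f₁ : X₁ ⟶ S) (π : X ⟶ X₁), IsClosedImmersion π ∧
      LocallyOfFinitePresentation f₁ ∧ IsProper f₁ ∧ π ≫ f₁ = f ∧
      ∀ s : S, topologicalKrullDim ↥(f₁.fiber s) ≤ d := by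
  obtain ⟨R, hcl, hπ, hp⟩ := Approx.Proper.exists_properApprox f
  haveI : IsConnected R.Kᵒᵖ := IsCofiltered.isConnected _
  have : ∀ (i j : R.Kᵒᵖ) (a : i ⟶ j), IsAffineHom (((Functor.const _).obj S).map a) :=
    fun i j a => inferInstanceAs (IsAffineHom (𝟙 S))
  have : ∀ k : R.Kᵒᵖ, CompactSpace (((Functor.const _).obj S).obj k) :=
    fun k => inferInstanceAs (CompactSpace S)
  have : ∀ k : R.Kᵒᵖ, QuasiSeparatedSpace (((Functor.const _).obj S).obj k) :=
    fun k => inferInstanceAs (QuasiSeparatedSpace S)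
  have : ∀ k, LocallyOfFiniteType (R.t.app k) := fun k => inferInstance
  have : ∀ k, QuasiCompact (R.t.app k) := fun k => R.qc k
  obtain ⟨k, hk⟩ := Groth.Agent.S9215.result R.D ((Functor.const _).obj S) R.t
    (Cone.mk X R.π) (Limits.constCone _ S) R.isLimit (Limits.isLimitConstCone _ S)
    (fun i j a => by
      have : IsClosedImmersion (pullback.lift (R.D.map a) (R.t.app i) (R.t.naturality a) ≫
          pullback.fst _ _) := by rw [pullback.lift_fst]; exact hcl a
      exact IsClosedImmersion.of_comp _ (pullback.fst (R.t.app j) _))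
    f (fun k => by show f ≫ 𝟙 S = _; rw [Category.comp_id]; exact (R.w k).symm) d hd
  exact ⟨R.D.obj k, R.t.app k, R.π.app k, hπ k, R.lfp k, hp k, R.w k, hk⟩

/-- The Noetherian model. -/
theorem exists_model {B : CommRingCat.{u}} {X : Scheme.{u}} (f : X ⟶ Spec B) [IsProper f] (d : ℕ)
    (hd : ∀ s : Spec B, topologicalKrullDim ↥(f.fiber s) ≤ d) :
    ∃ (X₀ S₀ : Scheme.{u}) (f₀ : X₀ ⟶ S₀) (π : X ⟶ X₀), IsAffineHom π ∧ IsAffine S₀ ∧
      IsLocallyNoetherian S₀ ∧ IsProper f₀ ∧ (∀ s : S₀, topologicalKrullDim ↥(f₀.fiber s) ≤ d) ∧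
      ∃ (g : Spec B ⟶ S₀) (w : π ≫ f₀ = f ≫ g), IsClosedImmersion (pullback.lift π f w) := by
  obtain ⟨X₁, f₁, π₁, hπ₁, hfp, hp₁, hπf, hd₁⟩ := exists_fp f d hd
  haveI := hp₁
  haveI := hfp
  haveI : CompactSpace X₁ := QuasiCompact.compactSpace_of_compactSpace f₁
  haveI : QuasiSeparatedSpace X₁ := quasiSeparatedSpace_of_quasiSeparated f₁
  let D := SubDiagram.diagram B
  let c := SubDiagram.cone B
  let hc : IsLimit c := SubDiagram.isLimitCone B
  haveI : ∀ i, CompactSpace (D.obj i) := fun i => inferInstance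
  haveI : ∀ i, QuasiSeparatedSpace (D.obj i) := fun i => inferInstance
  let f₁' : X₁ ⟶ c.pt := f₁
  haveI : IsProper f₁' := hp₁
  haveI : LocallyOfFinitePresentation f₁' := hfp
  obtain ⟨i₀, Y, g, q, hYc, hYq, hg, hsq⟩ := FPDescend.exists_descent hc f₁'
  haveI := hg
  obtain ⟨i, φ, hproper⟩ := Valuative.isProper_descends D c hc (fun _ _ a => inferInstance) i₀
    inferInstance inferInstance g hYc hYq inferInstance f₁' q hsq inferInstance
  let Y₁ := pullback g (D.map φ)
  let g₁ : Y₁ ⟶ D.obj i := pullback.snd g (D.map φ)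
  haveI : IsProper g₁ := hproper
  haveI : CompactSpace Y₁ := QuasiCompact.compactSpace_of_compactSpace g₁
  haveI : QuasiSeparatedSpace Y₁ := quasiSeparatedSpace_of_quasiSeparated g₁
  let q₁ : X₁ ⟶ Y₁ := pullback.lift q (f₁' ≫ c.π.app i) (by rw [Category.assoc, c.w, hsq.w])
  have hsq₁ : IsPullback q₁ f₁' g₁ (c.π.app i) := FPDescend.move hsq φ
  let DX := bcDiagram D g₁
  let DS := Over.forget i ⋙ D
  let cS := c.whisker (Over.forget i)
  have hcS : IsLimit cS := (Functor.Initial.isLimitWhiskerEquiv (Over.forget i) c).symm hc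
  let cX : Cone DX := bcCone hsq₁.w
  have hcX : IsLimit cX := isLimitBcCone hc hsq₁
  have : ∀ j, CompactSpace (DS.obj j) := fun j => inferInstanceAs (CompactSpace (D.obj j.left))
  have : ∀ j, QuasiSeparatedSpace (DS.obj j) :=
    fun j => inferInstanceAs (QuasiSeparatedSpace (D.obj j.left))
  have : ∀ (a b : Over i) (h : a ⟶ b), IsAffineHom (DS.map h) :=
    fun a b h => inferInstanceAs (IsAffineHom (D.map h.left))
  have hpj : ∀ j, IsProper ((bcSnd D g₁).app j) := fun j =>
    MorphismProperty.pullback_snd (P := @IsProper) g₁ (D.map j.hom) inferInstance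
  have : ∀ j, LocallyOfFiniteType ((bcSnd D g₁).app j) := fun j => haveI := hpj j; inferInstance
  have : ∀ j, QuasiCompact ((bcSnd D g₁).app j) := fun j => haveI := hpj j; inferInstance
  obtain ⟨j, hj⟩ := Groth.Agent.S9215.result DX DS (bcSnd D g₁) cX cS hcX hcS
    (fun a b h => by
      have : IsIso (pullback.lift (DX.map h) ((bcSnd D g₁).app a) ((bcSnd D g₁).naturality h)) := by
        have h' := (isPullback_bcDiagram_map D g₁ h)
        rw [show pullback.lift (DX.map h) ((bcSnd D g₁).app a) ((bcSnd D g₁).naturality h) =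
          h'.isoPullback.hom from pullback.hom_ext (by simp [DX, bcSnd]) (by simp [DX, bcSnd])]
        infer_instance
      infer_instance)
    f₁' (fun j => (by simp [cX, cS, bcSnd, bcCone])) d hd₁
  refine ⟨DX.obj j, D.obj j.left, (bcSnd D g₁).app j, π₁ ≫ cX.π.app j, ?_,
    inferInstance, inferInstance, hpj j, hj, c.π.app j.left, ?_, ?_⟩
  · haveI : IsAffineHom (cX.π.app j) := isAffineHom_π hcX j
    infer_instance
  · have hs := (isPullback_bcCone_π hsq₁ j).w
    rw [Category.assoc]
    calc π₁ ≫ cX.π.app j ≫ (bcSnd D g₁).app j = π₁ ≫ f₁' ≫ c.π.app j.left := by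
          exact congrArg (π₁ ≫ ·) hs
      _ = f ≫ c.π.app j.left := by rw [← Category.assoc]; exact congrArg (· ≫ _) hπf
  · have hP : IsPullback (cX.π.app j) f₁' ((bcSnd D g₁).app j) (c.π.app j.left) :=
      isPullback_bcCone_π hsq₁ j
    have e : ∀ w, pullback.lift (π₁ ≫ cX.π.app j) f w = π₁ ≫ hP.isoPullback.hom := fun w => by
      apply pullback.hom_ext
      · rw [pullback.lift_fst, Category.assoc, hP.isoPullback_hom_fst]
      · rw [pullback.lift_snd, Category.assoc, hP.isoPullback_hom_snd]; exact hπf.symm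
    rw [e]
    infer_instance

end Groth.Agent.Lib.FibreVanish36.Model
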