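import Groth.Agent.Lib.FibreVanish36.Reduce
import Groth.Agent.Lib.FibreVanish36.Model
import Groth.Agent.S0032
import Groth.Agent.Lib.QCoh.Pushforward
import Groth.Agent.Lib.ZarCoh.Morph
import Groth.Agent.Lib.FibreDim.Basic
import Mathlib.Topology.Sheaves.AddCommGrpCat

/-!
# Vanishing above the fibre dimension for proper morphisms to affine schemes
-/

set_option autoImplicit false
set_option backward.isDefEq.respectTransparency false

universe u

open CategoryTheory CategoryTheory.Limits AlgebraicGeometry Opposite TopologicalSpace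
open Groth.Agent.Lib

namespace Groth.Agent.Lib.FibreVanish36.Affine

/-- An abelian sheaf with zero stalks is zero. -/
theorem isZero_of_stalk {X : TopCat.{u}} (F : TopCat.Sheaf AddCommGrpCat.{u} X)
    (h : ∀ x : X, IsZero (TopCat.Presheaf.stalk F.obj x)) : IsZero F := by
  refine (IsZero.iff_id_eq_zero F).2 ?_
  refine (sheafToPresheaf _ _).map_injective ?_
  refine NatTrans.ext (funext fun U => ConcreteCategory.ext_apply fun s => ?_)
  refine TopCat.Presheaf.section_ext F U.unop _ _ fun x hx => ?_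
  exact (AddCommGrpCat.subsingleton_of_isZero (h x)).elim _ _

/-- The Noetherian input. -/
def CohVanish : Prop :=
  ∀ {X Y : Scheme.{u}} (f : X ⟶ Y) [IsProper f] [IsLocallyNoetherian Y] (y : Y) (d : ℕ),
    topologicalKrullDim ↥(f.fiber y) ≤ d → ∀ (M : X.Modules), Coh.IsCoh M → ∀ p : ℕ, d < p →
      IsZero (TopCat.Presheaf.stalk ((Coh.RpushAb f p).obj (Coh.toAb M)).obj y)

/-- Vanishing over an affine base. -/
theorem subsingleton_HH (H : CohVanish.{u}) {X S : Scheme.{u}} (f : X ⟶ S) [IsProper f] [IsAffine S]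
    (d : ℕ) (hd : ∀ s : S, topologicalKrullDim ↥(f.fiber s) ≤ d) (M : X.Modules) [M.IsQuasicoherent]
    (p : ℕ) (hp : d ≤ p) : Subsingleton (Coh.HH X M (p + 1)) := by
  let f' := f ≫ S.isoSpec.hom
  have hd' : ∀ s, topologicalKrullDim ↥(f'.fiber s) ≤ d := fun s => by
    refine le_trans (le_of_eq ?_) (hd (S.isoSpec.inv s))
    rw [FibreDim.Basic.topologicalKrullDim_fiber, FibreDim.Basic.topologicalKrullDim_fiber]
    have he : f'.base ⁻¹' {s} = f.base ⁻¹' {S.isoSpec.inv s} := by
      ext x
      simp only [Set.mem_preimage, Set.mem_singleton_iff, f', Scheme.Hom.comp_apply]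
      exact ⟨fun h => by rw [← h]; simp, fun h => by rw [h]; simp⟩
    exact ((Homeomorph.setCongr he).symm.isHomeomorph.topologicalKrullDim_eq _).symm
  obtain ⟨X₀, S₀, f₀, π, hπ, hS₀, hnS, hp₀, hd₀, -⟩ := Model.exists_model f' d hd'
  haveI := hπ
  haveI := hS₀
  haveI := hnS
  haveI := hp₀
  haveI : IsLocallyNoetherian X₀ := LocallyOfFiniteType.isLocallyNoetherian f₀
  haveI : CompactSpace X₀ := QuasiCompact.compactSpace_of_compactSpace f₀
  haveI : IsNoetherian X₀ := ⟨⟩
  haveI : ((Coh.push π).obj M).IsQuasicoherent := QCoh.Pushforward.isQCoh_pushforward π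
  haveI : Subsingleton (Coh.HH X₀ ((Coh.push π).obj M) (p + 1)) := by
    refine Reduce.subsingleton_HH p (fun G hG => ?_) _
    have hz : IsZero ((Coh.RpushAb f₀ (p + 1)).obj (Coh.toAb G)) :=
      isZero_of_stalk _ fun y => H f₀ y d (hd₀ y) G hG (p + 1) (by omega)
    haveI := hG.1
    obtain ⟨e⟩ := Groth.Agent.S0032.result f₀ G (p + 1)
    haveI : Subsingleton ↑(((Coh.RpushAb f₀ (p + 1)).obj (Coh.toAb G)).obj.obj (op ⊤)) :=
      AddCommGrpCat.subsingleton_of_isZero (Functor.map_isZero
        (sheafToPresheaf (Opens.grothendieckTopology S₀) AddCommGrpCat.{u} ⋙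
          (evaluation _ _).obj (op (⊤ : S₀.Opens))) hz)
    exact e.toEquiv.subsingleton
  exact (ZarCoh.Morph.affineEquiv π M (p + 1)).toEquiv.symm.subsingleton

end Groth.Agent.Lib.FibreVanish36.Affine
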