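import Groth.Agent.Lib.FibreVanish36.Gen
import Groth.Agent.Lib.FibreVanish36.Coherent
import Groth.Agent.S0002
import Groth.Agent.Lib.Curves.LES
import Groth.Agent.Lib.ZarCoh.Linear
import Groth.Agent.Lib.CohBasics.Affine

/-!
# Finiteness of top degree cohomology of proper morphisms with small fibres
-/

set_option autoImplicit false
set_option backward.isDefEq.respectTransparency false

universe u

open CategoryTheory CategoryTheory.Limits AlgebraicGeometry Opposite TopologicalSpace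
open Groth.Agent.Lib Groth.Agent.H78.Formal.Sections

namespace Groth.Agent.Lib.FibreVanish36.Finite

variable {X : Scheme.{u}}

/-- The map on cohomology. -/
noncomputable abbrev hm {M N : X.Modules} (φ : M ⟶ N) (n : ℕ) : Coh.HH X M n →+ Coh.HH X N n :=
  Sheaf.H.map (Curves.LES.toAbMap φ) n

lemma hm_comp {M N P : X.Modules} (φ : M ⟶ N) (ψ : N ⟶ P) (n : ℕ) (x : Coh.HH X M n) :
    hm (φ ≫ ψ) n x = hm ψ n (hm φ n x) := by
  rw [hm, show Curves.LES.toAbMap (φ ≫ ψ) = Curves.LES.toAbMap φ ≫ Curves.LES.toAbMap ψ from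
    Functor.map_comp _ φ ψ, Sheaf.H.map_comp_apply]

/-- An epimorphism is surjective in a degree above which the kernel has no cohomology. -/
lemma hm_surjective {M N : X.Modules} (φ : M ⟶ N) [Epi φ] (n : ℕ)
    (h : Subsingleton (Coh.HH X (kernel φ) (n + 1))) : Function.Surjective (hm φ n) := fun x => by
  let S : ShortComplex X.Modules := ShortComplex.mk (kernel.ι φ) φ (kernel.condition φ)
  have hS : S.ShortExact :=
    { exact := ShortComplex.exact_of_f_is_kernel _ (kernelIsKernel φ) }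
  exact (Curves.LES.postcomp_exact₃ (Curves.LES.cst X) (Curves.LES.shortExact_abSES hS) n (n + 1) rfl x).1
    (h.elim _ _)

variable {A : Type u} [CommRing A] [X.Over (Spec (CommRingCat.of A))] {X₀ : Scheme.{u}}
  (π : X ⟶ X₀) (F : X.Modules)

/-- Multiplication by `a` on the direct image. -/
noncomputable def act (a : A) : (Coh.push π).obj F ⟶ (Coh.push π).obj F :=
  (Coh.push π).map (_root_.Formal.smulMod A F a)

lemma act_app (a : A) (W : X₀.Opens) (s : Γ(F, π ⁻¹ᵁ W)) :
    ((act π F a).app W s : Γ(F, π ⁻¹ᵁ W)) = sMap A (π ⁻¹ᵁ W) a • s :=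
  smulMod_app F a _ s

/-- The transfer to the source. -/
noncomputable def tr (n : ℕ) : Coh.HH X₀ ((Coh.push π).obj F) n →+ Coh.HH X F n :=
  ZarCoh.PushH.pushH π.base (Coh.toAb F) n

lemma tr_act (a : A) (n : ℕ) (x : Coh.HH X₀ ((Coh.push π).obj F) n) :
    tr π F n (hm (act π F a) n x) = a • tr π F n x :=
  ZarCoh.PushH.pushH_natural π.base (Curves.LES.toAbMap (_root_.Formal.smulMod A F a)) n x

variable (d : ℕ) (P : Submodule A (Coh.HH X F d))

/-- Submodules whose classes land in `P`. -/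
def Good (K : Reduce.CohSub ((Coh.push π).obj F)) : Prop :=
  ∀ x : Coh.HH X₀ K.obj d, tr π F d (hm K.ι d x) ∈ P

/-- The image of a map from a coherent module, as a coherent submodule. -/
noncomputable def im [IsAffineHom π] [F.IsQuasicoherent] {B : X₀.Modules} (hB : Coh.IsCoh B)
    (φ : B ⟶ (Coh.push π).obj F) : Reduce.CohSub ((Coh.push π).obj F) :=
  haveI : ((Coh.push π).obj F).IsQuasicoherent := QCoh.Pushforward.isQCoh_pushforward π
  haveI := hB.1
  haveI := QCoh.Closure.isQCoh_cokernel φ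
  haveI : (Abelian.image φ).IsQuasicoherent := QCoh.Closure.isQCoh_kernel (cokernel.π φ)
  ⟨Abelian.image φ, Abelian.image.ι φ, inferInstance,
    CohBasics.Closure.isCoh_of_epi (Abelian.factorThruImage φ) hB⟩

lemma good_im [IsAffineHom π] [F.IsQuasicoherent]
    (hv : ∀ K : X₀.Modules, K.IsQuasicoherent → Subsingleton (Coh.HH X₀ K (d + 1)))
    {B : X₀.Modules} (hB : Coh.IsCoh B) (φ : B ⟶ (Coh.push π).obj F)
    (h : ∀ x, tr π F d (hm φ d x) ∈ P) : Good π F d P (im π F hB φ) := by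
  intro x
  haveI := hB.1
  haveI := (im π F hB φ).isCoh.1
  haveI : (Abelian.image φ).IsQuasicoherent := (im π F hB φ).isCoh.1
  haveI := QCoh.Closure.isQCoh_kernel (Abelian.factorThruImage φ)
  obtain ⟨y, rfl⟩ := hm_surjective (Abelian.factorThruImage φ) d (hv _ inferInstance) x
  show tr π F d (hm (Abelian.image.ι φ) d (hm (Abelian.factorThruImage φ) d y)) ∈ P
  rw [← hm_comp, Abelian.image.fac]
  exact h y

lemma exists_ge_good [IsAffineHom π] [F.IsQuasicoherent]
    (hv : ∀ K : X₀.Modules, K.IsQuasicoherent → Subsingleton (Coh.HH X₀ K (d + 1)))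
    (a b : Reduce.CohSub ((Coh.push π).obj F)) (ha : Good π F d P a) (hb : Good π F d P b) :
    ∃ c, Good π F d P c ∧ a ≤ c ∧ b ≤ c := by
  let φ : a.obj ⊞ b.obj ⟶ (Coh.push π).obj F := biprod.desc a.ι b.ι
  refine ⟨im π F (CohBasics.Closure.isCoh_biprod a.isCoh b.isCoh) φ, good_im π F d P hv _ φ fun x => ?_,
    ⟨biprod.inl ≫ Abelian.factorThruImage φ, ?_⟩, biprod.inr ≫ Abelian.factorThruImage φ, ?_⟩
  · have e : φ = biprod.fst ≫ a.ι + biprod.snd ≫ b.ι := by
      apply biprod.hom_ext' <;> simp [φ]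
    rw [e, hm, show Curves.LES.toAbMap (biprod.fst ≫ a.ι + biprod.snd ≫ b.ι) =
      Curves.LES.toAbMap (biprod.fst ≫ a.ι) + Curves.LES.toAbMap (biprod.snd ≫ b.ι) from
      (Curves.LES.F X₀).map_add]
    rw [show Sheaf.H.map (Curves.LES.toAbMap (biprod.fst ≫ a.ι) + Curves.LES.toAbMap (biprod.snd ≫ b.ι)) d x =
      hm (biprod.fst ≫ a.ι) d x + hm (biprod.snd ≫ b.ι) d x from by simp [hm, Sheaf.H.map_apply, Abelian.Ext.mk₀_add]]
    rw [map_add, hm_comp, hm_comp]
    exact P.add_mem (ha _) (hb _)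
  · show (biprod.inl ≫ Abelian.factorThruImage φ) ≫ Abelian.image.ι φ = a.ι
    rw [Category.assoc, Abelian.image.fac]; simp [φ]
  · show (biprod.inr ≫ Abelian.factorThruImage φ) ≫ Abelian.image.ι φ = b.ι
    rw [Category.assoc, Abelian.image.fac]; simp [φ]

lemma app_of_le {a b : Reduce.CohSub ((Coh.push π).obj F)} (h : a ≤ b) {W : X₀.Opens} (y : Γ(a.obj, W)) :
    ∃ z : Γ(b.obj, W), b.ι.app W z = a.ι.app W y := by
  obtain ⟨k, hk⟩ := h
  refine ⟨k.app W y, ?_⟩
  rw [← hk, Scheme.Modules.Hom.comp_app]; rfl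

/-- Top degree cohomology of a finite type quasi-coherent module is finite. -/
theorem finite_HH (A : Type u) [CommRing A] (X : Scheme.{u}) [X.Over (Spec (CommRingCat.of A))]
    [IsProper (X ↘ Spec (CommRingCat.of A))] (d : ℕ)
    (hd : ∀ s, topologicalKrullDim ↥((X ↘ Spec (CommRingCat.of A)).fiber s) ≤ d)
    (F : X.Modules) (hF : Coh.IsCoh F) : Module.Finite A (Coh.HH X F d) := by
  classical
  let f := X ↘ Spec (CommRingCat.of A)
  haveI : F.IsQuasicoherent := hF.1
  obtain ⟨X₀, S₀, f₀, π, hπ, hS₀, hnS, hp₀, hd₀, g, w, hci⟩ := Model.exists_model f d hd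
  haveI := hπ
  haveI := hS₀
  haveI := hnS
  haveI := hp₀
  haveI := hci
  haveI : IsLocallyNoetherian X₀ := LocallyOfFiniteType.isLocallyNoetherian f₀
  haveI : CompactSpace X₀ := QuasiCompact.compactSpace_of_compactSpace f₀
  haveI : IsNoetherian X₀ := ⟨⟩
  haveI : QuasiSeparatedSpace X₀ := quasiSeparatedSpace_of_quasiSeparated f₀
  let M := (Coh.push π).obj F
  haveI : M.IsQuasicoherent := QCoh.Pushforward.isQCoh_pushforward π
  have hv : ∀ K : X₀.Modules, K.IsQuasicoherent → Subsingleton (Coh.HH X₀ K (d + 1)) := fun K hK =>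
    haveI := hK
    Affine.subsingleton_HH Coherent.cohVanish f₀ d hd₀ K d le_rfl
  -- a finite affine cover with finitely many generators
  obtain ⟨s, hs, hcov⟩ := isCompact_and_isOpen_iff_finite_and_eq_biUnion_affineOpens.mp
    (⟨isCompact_univ, isOpen_univ⟩ : IsCompact (Set.univ : Set X₀) ∧ IsOpen (Set.univ : Set X₀))
  haveI := hs.fintype
  have hfin : ∀ U : s, ∃ (n : ℕ) (t : Fin n → Γ(F, π ⁻¹ᵁ U.1.1)),
      Submodule.span Γ(X, π ⁻¹ᵁ U.1.1) (Set.range t) = ⊤ := fun U => by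
    haveI := CohBasics.Closure.finite_sections hF (U.1.2.preimage π)
    exact Module.Finite.exists_fin
  choose n t ht using hfin
  -- one coherent submodule containing all of them
  have hthrough : ∀ (U : s) (i : Fin (n U)), ∃ (a : Reduce.CohSub M) (y : Γ(a.obj, U.1.1)),
      a.ι.app U.1.1 y = t U i := fun U i => Reduce.CohSub.exists_through M U.1.2 _
  choose b y hy using hthrough
  haveI : IsDirectedOrder (Reduce.CohSub M) := Reduce.CohSub.isDirected
  obtain ⟨z, -⟩ := Reduce.CohSub.exists_through M (isAffineOpen_bot X₀) 0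
  haveI : Nonempty (Reduce.CohSub M) := ⟨z⟩
  obtain ⟨G, hG⟩ := Finset.exists_le ((Finset.univ : Finset (Σ U : s, Fin (n U))).image
    fun p : (Σ U : s, Fin (n U)) => b p.1 p.2)
  let P : Submodule A (Coh.HH X F d) := Submodule.span A (Set.range fun x => tr π F d (hm G.ι d x))
  -- `P` is finitely generated
  have hPfg : P.FG := by
    let B : Type u := Γ(S₀, ⊤)
    letI : X₀.Over (Spec (CommRingCat.of B)) := ⟨f₀ ≫ S₀.isoSpec.hom⟩
    haveI : IsProper (X₀ ↘ Spec (CommRingCat.of B)) :=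
      inferInstanceAs (IsProper (f₀ ≫ S₀.isoSpec.hom))
    haveI : IsNoetherianRing B := IsLocallyNoetherian.component_noetherian ⟨⊤, isAffineOpen_top S₀⟩
    obtain ⟨m, gen, hgen⟩ := @Module.Finite.exists_fin B (Coh.HH X₀ G.obj d) _ _ _
      (Groth.Agent.S0002.result B X₀ G.obj G.isCoh d)
    refine ⟨Finset.univ.image fun i => tr π F d (hm G.ι d (gen i)), le_antisymm ?_ ?_⟩
    · refine Submodule.span_le.2 ?_
      intro v hv'
      obtain ⟨i, -, rfl⟩ := Finset.mem_image.1 (Finset.mem_coe.1 hv')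
      exact Submodule.subset_span ⟨gen i, rfl⟩
    · refine Submodule.span_le.2 ?_
      rintro _ ⟨x, rfl⟩
      have hx : x ∈ Submodule.span B (Set.range gen) := hgen ▸ Submodule.mem_top
      induction hx using Submodule.span_induction with
      | mem v hv' =>
        obtain ⟨i, rfl⟩ := hv'
        exact Submodule.subset_span (Finset.mem_coe.2 (Finset.mem_image_of_mem _ (Finset.mem_univ i)))
      | zero => simp
      | add u v _ _ hu hv' =>
        simp only [SetLike.mem_coe, map_add] at hu hv' ⊢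
        exact add_mem hu hv'
      | smul r u _ hu =>
        obtain ⟨a, ha⟩ : ∃ a : A, Coh.toGlobal f a =
            π.appTop (Coh.toGlobal (f₀ ≫ S₀.isoSpec.hom) r) := by
          obtain ⟨a, ha⟩ := (ConcreteCategory.bijective_of_isIso
            (Scheme.ΓSpecIso (CommRingCat.of A)).inv).2 ((g ≫ S₀.isoSpec.hom).appTop
              ((Scheme.ΓSpecIso (CommRingCat.of B)).inv r))
          refine ⟨a, ?_⟩
          show f.appTop ((Scheme.ΓSpecIso (CommRingCat.of A)).inv a) =
            π.appTop ((f₀ ≫ S₀.isoSpec.hom).appTop ((Scheme.ΓSpecIso (CommRingCat.of B)).inv r))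
          rw [ha, Lim.Props.comp_appTop_apply, Lim.Props.comp_appTop_apply, ← Category.assoc,
            ← Category.assoc, w]
        have e : tr π F d (hm G.ι d (r • u)) = a • tr π F d (hm G.ι d u) := by
          rw [show hm G.ι d (r • u) = (r • hm G.ι d u : Coh.HH X₀ M d) from
            (Curves.LES.mapK B G.ι d).map_smul r u]
          exact ZarCoh.Morph.pushH_smul π F d (Coh.toGlobal (f₀ ≫ S₀.isoSpec.hom) r) (Coh.toGlobal f a)
            ha _
        show tr π F d (hm G.ι d (r • u)) ∈ _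
        rw [e]
        exact Submodule.smul_mem _ a hu
  -- good submodules
  have hgoodG : Good π F d P G := fun x => Submodule.subset_span ⟨x, rfl⟩
  let J := {a : Reduce.CohSub M // Good π F d P a}
  haveI : Nonempty J := ⟨⟨G, hgoodG⟩⟩
  haveI : IsDirectedOrder J := ⟨fun a a' => by
    obtain ⟨c, hc, h1, h2⟩ := exists_ge_good π F d P hv a.1 a'.1 a.2 a'.2
    exact ⟨⟨c, hc⟩, h1, h2⟩⟩
  -- sections in good submodules
  let R : ∀ W : X₀.Opens, Set Γ(F, π ⁻¹ᵁ W) := fun W =>
    {v | ∃ (a : J) (u : Γ(a.1.obj, W)), (a.1.ι.app W u : Γ(F, π ⁻¹ᵁ W)) = v}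
  have hRadd : ∀ W v v', v ∈ R W → v' ∈ R W → v + v' ∈ R W := by
    rintro W _ _ ⟨a, u, rfl⟩ ⟨a', u', rfl⟩
    obtain ⟨c, h1, h2⟩ := exists_ge_ge a a'
    obtain ⟨q, hq⟩ := app_of_le π F h1 u
    obtain ⟨q', hq'⟩ := app_of_le π F h2 u'
    exact ⟨c, q + q', by rw [map_add, hq, hq']⟩
  have hR0 : ∀ W, (0 : Γ(F, π ⁻¹ᵁ W)) ∈ R W := fun W => ⟨⟨G, hgoodG⟩, 0, map_zero _⟩
  have hRO : ∀ W (r : Γ(X₀, W)) v, v ∈ R W → π.app W r • v ∈ R W := by
    rintro W r _ ⟨a, u, rfl⟩
    exact ⟨a, r • u, a.1.ι.app_smul r u⟩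
  have hRA : ∀ W (a : A) v, v ∈ R W → sMap A (π ⁻¹ᵁ W) a • v ∈ R W := by
    rintro W a _ ⟨c, u, rfl⟩
    let φ := c.1.ι ≫ act π F a
    have hgood : Good π F d P (im π F c.1.isCoh φ) := good_im π F d P hv _ φ fun x => by
      rw [hm_comp, tr_act]
      exact P.smul_mem a (c.2 x)
    refine ⟨⟨_, hgood⟩, (Abelian.factorThruImage φ).app W u, ?_⟩
    show ((Abelian.image.ι φ).app W ((Abelian.factorThruImage φ).app W u) : Γ(F, π ⁻¹ᵁ W)) = _
    rw [← ConcreteCategory.comp_apply, ← Scheme.Modules.Hom.comp_app, Abelian.image.fac]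
    exact act_app π F a W (c.1.ι.app W u)
  have hcover : ∀ (U : s) (v : Γ(F, π ⁻¹ᵁ U.1.1)), v ∈ R U.1.1 := by
    intro U v
    let T : Subring Γ(X, π ⁻¹ᵁ U.1.1) :=
      { carrier := {r | ∀ v, v ∈ R U.1.1 → r • v ∈ R U.1.1}
        one_mem' := fun v hv' => by rwa [one_smul]
        zero_mem' := fun v _ => by rw [zero_smul]; exact hR0 _
        mul_mem' := fun {r r'} h h' v hv' => by rw [mul_smul]; exact h _ (h' _ hv')
        add_mem' := fun {r r'} h h' v hv' => by rw [add_smul]; exact hRadd _ _ _ (h _ hv') (h' _ hv')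
        neg_mem' := fun {r} h v hv' => by
          obtain ⟨a, u, hu⟩ := h v hv'
          exact ⟨a, -u, by rw [map_neg, neg_smul, ← hu]⟩ }
    have hT : T = ⊤ := Gen.subring_eq_top f f₀ g π w U.1.2 T (fun r => hRO _ r) fun a v hv' => by
      have e : sMap A (π ⁻¹ᵁ U.1.1) ((Scheme.ΓSpecIso (CommRingCat.of A)).hom a) =
          f.appLE ⊤ (π ⁻¹ᵁ U.1.1) le_top a := by
        show X.presheaf.map (homOfLE le_top).op (f.appTop ((Scheme.ΓSpecIso (CommRingCat.of A)).inv
          ((Scheme.ΓSpecIso (CommRingCat.of A)).hom a))) = _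
        rw [CategoryTheory.Iso.hom_inv_id_apply]; rfl
      rw [← e]; exact hRA _ _ v hv'
    have hv' : v ∈ Submodule.span Γ(X, π ⁻¹ᵁ U.1.1) (Set.range (t U)) := ht U ▸ Submodule.mem_top
    induction hv' using Submodule.span_induction with
    | mem v hv'' =>
      obtain ⟨i, rfl⟩ := hv''
      obtain ⟨q, hq⟩ := app_of_le π F (hG (b U i)
        (Finset.mem_image.2 ⟨⟨U, i⟩, Finset.mem_univ _, rfl⟩)) (y U i)
      exact ⟨⟨G, hgoodG⟩, q, hq.trans (hy U i)⟩
    | zero => exact hR0 _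
    | add v v' _ _ h h' => exact hRadd _ _ _ h h'
    | smul r v _ h => exact (show r ∈ T from hT ▸ Subring.mem_top r) v h
  have hex : ∀ W : X₀.Opens, IsAffineOpen W → ∀ v : Γ(M, W), ∃ (a : J) (u : Γ(a.1.obj, W)),
      a.1.ι.app W u = v := by
    intro W hW v
    have hloc : ∀ x : W, ∃ (D : X₀.Opens) (hD : D ≤ W), x.1 ∈ D ∧ ∃ (a : J) (u : Γ(a.1.obj, D)),
        a.1.ι.app D u = M.presheaf.map (homOfLE hD).op v := by
      intro x
      obtain ⟨U, hU, hxU⟩ := Set.mem_iUnion₂.mp (hcov ▸ Set.mem_univ x.1)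
      obtain ⟨r, r', e, hxr⟩ := exists_basicOpen_le_affine_inter hW U.2 x.1 ⟨x.2, hxU⟩
      let D := X₀.basicOpen r'
      have hDW : D ≤ W := e.symm.le.trans (X₀.basicOpen_le r)
      have hDU : D ≤ U.1 := X₀.basicOpen_le r'
      obtain ⟨N, v', hv'⟩ := (QCoh.Localizing.localizes_of_isAffineOpen (M := M) U.2 r').ext'
        (M.presheaf.map (homOfLE hDW).op v)
      obtain ⟨a, u, hu⟩ := hcover ⟨U, hU⟩ v'
      have hunit : IsUnit (X₀.presheaf.map (homOfLE hDU).op r' ^ N) :=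
        (X₀.toRingedSpace.isUnit_res_basicOpen r').pow N
      refine ⟨D, hDW, e.le hxr, a,
        (↑hunit.unit⁻¹ : Γ(X₀, D)) • a.1.obj.presheaf.map (homOfLE hDU).op u, ?_⟩
      rw [a.1.ι.app_smul]
      have e1 : a.1.ι.app D (a.1.obj.presheaf.map (homOfLE hDU).op u) =
          M.presheaf.map (homOfLE hDU).op (a.1.ι.app U.1 u) :=
        ConcreteCategory.congr_hom (a.1.ι.mapPresheaf.naturality (homOfLE hDU).op) u
      rw [e1, show (a.1.ι.app U.1 u : Γ(M, U.1)) = v' from hu]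
      refine (congrArg ((↑hunit.unit⁻¹ : Γ(X₀, D)) • ·) hv').trans ?_
      rw [← mul_smul]
      refine (congrArg (· • M.presheaf.map (homOfLE hDW).op v) ?_).trans (one_smul _ _)
      exact hunit.val_inv_mul
    choose D hD hxD a u hu using hloc
    obtain ⟨K, hK⟩ := hW.isCompact.elim_finite_subcover (fun x : W => (D x : Set X₀))
      (fun x => (D x).2) fun z hz => Set.mem_iUnion.2 ⟨⟨z, hz⟩, hxD ⟨z, hz⟩⟩
    obtain ⟨c, hc⟩ := Finset.exists_le (K.image a)
    refine ⟨c, ?_⟩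
    haveI := c.1.mono
    haveI := c.1.isCoh.1
    let S : ShortComplex X₀.Modules := ShortComplex.mk c.1.ι (cokernel.π c.1.ι) (cokernel.condition _)
    refine @QCoh.Closure.sections_exact _ S (ShortComplex.exact_cokernel c.1.ι) c.1.mono W v ?_
    refine TopCat.Sheaf.eq_of_locally_eq' (⟨_, (cokernel c.1.ι).isSheaf⟩ : TopCat.Sheaf Ab X₀)
      (fun x : K => D x.1) W (fun x => homOfLE (hD x.1)) (fun z hz => ?_) _ _ fun x => ?_
    · obtain ⟨x, hxK, hzx⟩ := Set.mem_iUnion₂.mp (hK hz)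
      exact Opens.mem_iSup.2 ⟨⟨x, hxK⟩, hzx⟩
    · refine Eq.trans ?_ (map_zero _).symm
      obtain ⟨q, hq⟩ := app_of_le π F (hc (a x.1) (Finset.mem_image_of_mem _ x.2)) (u x.1)
      show (cokernel c.1.ι).presheaf.map (homOfLE (hD x.1)).op ((cokernel.π c.1.ι).app W v) = 0
      refine (ConcreteCategory.congr_hom
        ((cokernel.π c.1.ι).mapPresheaf.naturality (homOfLE (hD x.1)).op) v).symm.trans ?_
      show (cokernel.π c.1.ι).app (D x.1) (M.presheaf.map (homOfLE (hD x.1)).op v) = 0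
      rw [← hu x.1, ← hq]
      exact QCoh.Closure.sections_comp (S := S) _ q
  haveI : ∀ a : J, Mono a.1.ι := fun a => a.1.mono
  have hPtop : P = ⊤ := eq_top_iff.2 fun x _ => by
    obtain ⟨x', rfl⟩ : ∃ x', tr π F d x' = x := (ZarCoh.Morph.affineEquiv π F d).surjective x
    obtain ⟨a, u, hu⟩ := Colim.exists_preimage M (fun a : J => a.1.obj) (fun a => a.1.isCoh.1)
      (fun a => a.1.ι) (fun a a' h => Exists.choose h) (fun a a' h => Exists.choose_spec h) hex d x'
    rw [← hu]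
    exact a.2 u
  exact ⟨hPtop ▸ hPfg⟩

end Groth.Agent.Lib.FibreVanish36.Finite
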