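import Mathlib.AlgebraicGeometry.Morphisms.ClosedImmersion
import Mathlib.AlgebraicGeometry.Morphisms.Affine
import Groth.Agent.Lib.Lim.Props

/-!
# Sections of a closed subscheme of a base change along an affine morphism
-/

set_option autoImplicit false
set_option backward.isDefEq.respectTransparency false

universe u

open CategoryTheory CategoryTheory.Limits AlgebraicGeometry

namespace Groth.Agent.Lib.FibreVanish36.Gen

/-- The sections of `π⁻¹W` are generated by those of `W` and of the base. -/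
theorem subring_eq_top {X X₀ S S₀ : Scheme.{u}} [IsAffine S] [IsAffine S₀] (f : X ⟶ S)
    (f₀ : X₀ ⟶ S₀) (g : S ⟶ S₀) (π : X ⟶ X₀) (w : π ≫ f₀ = f ≫ g)
    [IsClosedImmersion (pullback.lift π f w)] {W : X₀.Opens} (hW : IsAffineOpen W)
    (T : Subring Γ(X, π ⁻¹ᵁ W)) (h₁ : ∀ r : Γ(X₀, W), π.app W r ∈ T)
    (h₂ : ∀ a : Γ(S, ⊤), f.appLE ⊤ (π ⁻¹ᵁ W) le_top a ∈ T) : T = ⊤ := by
  haveI : IsAffine (W : Scheme.{u}) := hW
  let P := pullback f₀ g
  let Q := pullback (W.ι ≫ f₀) g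
  let m : Q ⟶ P := pullback.map _ _ _ _ W.ι (𝟙 _) (𝟙 _) (by simp) (by simp)
  have s2 : IsPullback m (pullback.fst (W.ι ≫ f₀) g) (pullback.fst f₀ g) W.ι := by
    have hm1 : m ≫ pullback.fst f₀ g = pullback.fst (W.ι ≫ f₀) g ≫ W.ι := pullback.lift_fst _ _ _
    have hm2 : m ≫ pullback.snd f₀ g = pullback.snd (W.ι ≫ f₀) g :=
      (pullback.lift_snd _ _ _).trans (Category.comp_id _)
    refine IsPullback.of_right ?_ hm1 (IsPullback.of_hasPullback f₀ g).flip
    rw [hm2]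
    exact (IsPullback.of_hasPullback (W.ι ≫ f₀) g).flip
  let k : ((π ⁻¹ᵁ W : X.Opens) : Scheme.{u}) ⟶ Q :=
    pullback.lift (π ∣_ W) ((π ⁻¹ᵁ W).ι ≫ f)
      (by rw [Category.assoc, ← w, morphismRestrict_ι_assoc])
  have hkm : k ≫ m = (π ⁻¹ᵁ W).ι ≫ pullback.lift π f w := by
    apply pullback.hom_ext <;> simp [k, m, pullback.map]
  have s1 : IsPullback (π ⁻¹ᵁ W).ι k (pullback.lift π f w) m := by
    refine IsPullback.of_bot ?_ hkm.symm s2
    simp only [k, pullback.lift_fst]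
    exact (isPullback_morphismRestrict π W).flip
  haveI : IsClosedImmersion k := MorphismProperty.of_isPullback (P := @IsClosedImmersion) s1 inferInstance
  haveI : IsAffine Q := inferInstance
  have hk : Function.Surjective k.appTop := k.app_surjective ⊤ (isAffineOpen_top Q)
  let e : Γ(((π ⁻¹ᵁ W : X.Opens) : Scheme.{u}), ⊤) →+* Γ(X, π ⁻¹ᵁ W) := (π ⁻¹ᵁ W).topIso.hom.hom
  have htop : (T.comap e).comap k.appTop.hom = ⊤ := by
    refine Lim.Props.eq_top_of_isPushout
      (isPushout_appTop_of_isPullback (IsPullback.of_hasPullback (W.ι ≫ f₀) g)) _ (fun r => ?_) fun a => ?_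
    · show e (k.appTop ((pullback.fst (W.ι ≫ f₀) g).appTop r)) ∈ T
      have h := h₁ (W.topIso.hom r)
      convert h using 1
      rw [Lim.Props.comp_appTop_apply, show k ≫ pullback.fst (W.ι ≫ f₀) g = π ∣_ W from pullback.lift_fst _ _ _]
      show ((π ∣_ W).appTop ≫ (π ⁻¹ᵁ W).topIso.hom) r = (W.topIso.hom ≫ π.app W) r
      congr 2
      rw [morphismRestrict_appTop]
      simp only [Scheme.Opens.topIso, Scheme.Hom.app_eq_appLE, Category.assoc]
      simp [Scheme.Hom.appLE_map, Scheme.Hom.map_appLE]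
    · show e (k.appTop ((pullback.snd (W.ι ≫ f₀) g).appTop a)) ∈ T
      have h := h₂ a
      convert h using 1
      rw [Lim.Props.comp_appTop_apply, show k ≫ pullback.snd (W.ι ≫ f₀) g = (π ⁻¹ᵁ W).ι ≫ f from pullback.lift_snd _ _ _]
      show (((π ⁻¹ᵁ W).ι ≫ f).appTop ≫ (π ⁻¹ᵁ W).topIso.hom) a = _
      congr 2
      simp [Scheme.Hom.appLE, Scheme.Opens.topIso, ← X.presheaf.map_comp]
  refine eq_top_iff.2 fun x _ => ?_
  obtain ⟨y, hy⟩ := (ConcreteCategory.bijective_of_isIso (π ⁻¹ᵁ W).topIso.hom).2 x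
  obtain ⟨z, rfl⟩ := hk y
  rw [← hy]
  exact (htop.symm ▸ Subring.mem_top z : z ∈ (T.comap e).comap k.appTop.hom)

end Groth.Agent.Lib.FibreVanish36.Gen
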