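import Groth.Agent.Lib.FibreVanish36.Colim
import Groth.Agent.Lib.Modules.ExtendFT
import Groth.Agent.Lib.CohBasics.Closure

/-!
# On a Noetherian scheme, vanishing for coherent modules gives vanishing for quasi-coherent ones
-/

set_option autoImplicit false
set_option linter.style.haveILetI false

universe u

open CategoryTheory CategoryTheory.Limits TopologicalSpace AlgebraicGeometry
open Groth.Agent.Lib

namespace Groth.Agent.Lib.FibreVanish36.Reduce

variable {X : Scheme.{u}}

/-- A coherent submodule. -/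
structure CohSub (F : X.Modules) where
  /-- the submodule -/
  obj : X.Modules
  /-- the inclusion -/
  ι : obj ⟶ F
  mono : Mono ι
  isCoh : Coh.IsCoh obj

namespace CohSub

variable {F : X.Modules}

instance : Preorder (CohSub F) where
  le a b := ∃ h : a.obj ⟶ b.obj, h ≫ b.ι = a.ι
  le_refl a := ⟨𝟙 _, Category.id_comp _⟩
  le_trans a b c h h' := ⟨h.choose ≫ h'.choose, by rw [Category.assoc, h'.choose_spec, h.choose_spec]⟩

theorem exists_through [IsLocallyNoetherian X] (F : X.Modules) [F.IsQuasicoherent] {U : X.Opens}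
    (hU : IsAffineOpen U) (t : Γ(F, U)) : ∃ (a : CohSub F) (g : Γ(a.obj, U)), a.ι.app U g = t := by
  have hX : ∀ x : X, ∃ V : X.Opens, x ∈ V ∧ NoetherianSpace (V : Set X) := fun x => by
    obtain ⟨V, hV, hx, -⟩ := exists_isAffineOpen_mem_and_subset (X := X) (x := x) (U := ⊤) trivial
    haveI : IsNoetherianRing Γ(X, V) := IsLocallyNoetherian.component_noetherian ⟨V, hV⟩
    exact ⟨V, hx, noetherianSpace_of_isAffineOpen V hV⟩
  obtain ⟨G, i, hm, hq, hft, g, hg⟩ := Modules.ExtendFT.exists_through_section (F := F) hX hU t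
  exact ⟨⟨G, i, hm, ⟨hq, hft⟩⟩, g, hg⟩

theorem isDirected [IsLocallyNoetherian X] [F.IsQuasicoherent] : IsDirectedOrder (CohSub F) := by
  refine ⟨fun a b => ?_⟩
  let φ : a.obj ⊞ b.obj ⟶ F := biprod.desc a.ι b.ι
  haveI := (CohBasics.Closure.isCoh_biprod a.isCoh b.isCoh).1
  haveI := QCoh.Closure.isQCoh_cokernel φ
  haveI : (Abelian.image φ).IsQuasicoherent := QCoh.Closure.isQCoh_kernel (cokernel.π φ)
  let c : CohSub F := ⟨Abelian.image φ, Abelian.image.ι φ, inferInstance,
    CohBasics.Closure.isCoh_of_epi (Abelian.factorThruImage φ)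
      (CohBasics.Closure.isCoh_biprod a.isCoh b.isCoh)⟩
  refine ⟨c, ⟨biprod.inl ≫ Abelian.factorThruImage φ, ?_⟩, biprod.inr ≫ Abelian.factorThruImage φ, ?_⟩
  · show (biprod.inl ≫ Abelian.factorThruImage φ) ≫ Abelian.image.ι φ = a.ι
    rw [Category.assoc, Abelian.image.fac]; simp [φ]
  · show (biprod.inr ≫ Abelian.factorThruImage φ) ≫ Abelian.image.ι φ = b.ι
    rw [Category.assoc, Abelian.image.fac]; simp [φ]

end CohSub

/-- Vanishing for coherent modules gives vanishing for quasi-coherent modules. -/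
theorem subsingleton_HH [IsNoetherian X] (p : ℕ)
    (hvan : ∀ G : X.Modules, Coh.IsCoh G → Subsingleton (Coh.HH X G (p + 1)))
    (F : X.Modules) [F.IsQuasicoherent] : Subsingleton (Coh.HH X F (p + 1)) := by
  haveI : IsDirectedOrder (CohSub F) := CohSub.isDirected
  obtain ⟨a₀, -⟩ := CohSub.exists_through F (isAffineOpen_bot X) 0
  haveI : Nonempty (CohSub F) := ⟨a₀⟩
  haveI : ∀ a : CohSub F, Mono a.ι := fun a => a.mono
  exact Colim.subsingleton_HH F (fun a : CohSub F => a.obj) (fun a => a.isCoh.1) (fun a => a.ι)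
    (fun a b h => Exists.choose h) (fun a b h => Exists.choose_spec h) (fun W hW s => CohSub.exists_through F hW s) p
    (fun a => hvan _ a.isCoh)

end Groth.Agent.Lib.FibreVanish36.Reduce
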